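import Cfsg.Agent.Lib.SteinbergTwo.Abstract
import Mathlib.GroupTheory.PresentedGroup
import Mathlib.LinearAlgebra.Matrix.SpecialLinearGroup

/-! The rank one Steinberg presentation of `SL(2, K)` for a finite field `K`. -/

set_option autoImplicit false

namespace CfsgLib.SteinbergTwo

open Matrix

variable (K : Type*) [Field K]

/-- The defining relations. -/
def rels : Set (FreeGroup (Bool × K)) :=
  {g : FreeGroup (Bool × K) | ∃ (b : Bool) (t u : K), g = FreeGroup.of (b, t) * FreeGroup.of (b, u) * (FreeGroup.of (b, t + u))⁻¹} ∪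
    {g | ∃ (b : Bool) (t u : K), t ≠ 0 ∧
      g = (FreeGroup.of (b, t) * FreeGroup.of (!b, -t⁻¹) * FreeGroup.of (b, t)) * FreeGroup.of (b, u) *
            (FreeGroup.of (b, t) * FreeGroup.of (!b, -t⁻¹) * FreeGroup.of (b, t))⁻¹ * (FreeGroup.of (!b, -(t⁻¹ ^ 2 * u)))⁻¹}

/-- The generators in the presented group. -/
def gen (b : Bool) (t : K) : PresentedGroup (rels K) := PresentedGroup.of (b, t)

theorem rel_gen : Rel (gen K) where
  add b t u := by
    rw [← mul_inv_eq_one]
    exact PresentedGroup.one_of_mem (Or.inl ⟨b, t, u, rfl⟩)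
  conj b t u ht := by
    rw [← mul_inv_eq_one]
    exact PresentedGroup.one_of_mem (Or.inr ⟨b, t, u, ht, rfl⟩)

theorem closure_gen :
    Subgroup.closure {g : PresentedGroup (rels K) | ∃ b t, g = gen K b t} = ⊤ := by
  rw [← PresentedGroup.closure_range_of (rels K)]
  congr 1
  ext g
  simp [gen, eq_comm]

/-- The images of the generators. -/
def img (bt : Bool × K) : Matrix.SpecialLinearGroup (Fin 2) K :=
  if bt.1 then ⟨!![1, bt.2; 0, 1], by simp [det_fin_two]⟩ else ⟨!![1, 0; bt.2, 1], by simp [det_fin_two]⟩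

theorem coe_img (b : Bool) (t : K) : (img K (b, t) : Matrix (Fin 2) (Fin 2) K) =
    if b then !![1, t; 0, 1] else !![1, 0; t, 1] := by
  cases b <;> rfl

theorem img_wWord (b : Bool) {t : K} (ht : t ≠ 0) :
    ((wWord (fun b t => img K (b, t)) b t : Matrix.SpecialLinearGroup (Fin 2) K) : Matrix (Fin 2) (Fin 2) K) =
      if b then !![0, t; -t⁻¹, 0] else !![0, -t⁻¹; t, 0] := by
  simp only [wWord, Matrix.SpecialLinearGroup.coe_mul, coe_img]
  cases b <;> simp [ht]

theorem img_rel : ∀ r ∈ rels K, FreeGroup.lift (img K) r = 1 := by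
  rintro r (⟨b, t, u, rfl⟩ | ⟨b, t, u, ht, rfl⟩)
  · rw [map_mul, map_mul, map_inv, mul_inv_eq_one]
    simp only [FreeGroup.lift_apply_of]
    apply Subtype.ext
    rw [Matrix.SpecialLinearGroup.coe_mul]
    cases b <;> simp [img, add_comm]
  · simp only [map_mul, map_inv, FreeGroup.lift_apply_of, mul_inv_eq_one]
    rw [mul_inv_eq_iff_eq_mul]
    show wWord (fun b t => img K (b, t)) b t * img K (b, u) =
      img K (!b, -(t⁻¹ ^ 2 * u)) * wWord (fun b t => img K (b, t)) b t
    apply Subtype.ext
    rw [Matrix.SpecialLinearGroup.coe_mul, Matrix.SpecialLinearGroup.coe_mul, img_wWord K b ht]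
    cases b <;> simp [img] <;> field_simp

/-- The comparison map. -/
def toSL : PresentedGroup (rels K) →* Matrix.SpecialLinearGroup (Fin 2) K :=
  PresentedGroup.toGroup (img_rel K)

theorem toSL_gen (b : Bool) (t : K) : toSL K (gen K b t) = img K (b, t) :=
  PresentedGroup.toGroup.of _

theorem toSL_wWord (b : Bool) (t : K) :
    toSL K (wWord (gen K) b t) = wWord (fun b t => img K (b, t)) b t := by
  simp [wWord, toSL_gen]

theorem surjective_toSL : Function.Surjective (toSL K) := by
  rw [← MonoidHom.range_eq_top, eq_top_iff]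
  intro g _
  have hx : ∀ b t, img K (b, t) ∈ (toSL K).range := fun b t => ⟨gen K b t, toSL_gen K b t⟩
  suffices h : ∀ A : Matrix.SpecialLinearGroup (Fin 2) K,
      (A : Matrix (Fin 2) (Fin 2) K) 1 0 ≠ 0 → A ∈ (toSL K).range by
    by_cases hc : (g : Matrix (Fin 2) (Fin 2) K) 1 0 = 0
    · rw [← Subgroup.mul_mem_cancel_right _ (hx false 1)]
      refine h _ ?_
      have hd := g.2
      rw [det_fin_two, hc, mul_zero, sub_zero] at hd
      rw [Matrix.SpecialLinearGroup.coe_mul, coe_img]
      simp [Matrix.mul_apply, Fin.sum_univ_two, hc, right_ne_zero_of_mul_eq_one hd]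
    · exact h g hc
  intro A hc
  set a := (A : Matrix (Fin 2) (Fin 2) K) 0 0
  set c := (A : Matrix (Fin 2) (Fin 2) K) 1 0
  set d := (A : Matrix (Fin 2) (Fin 2) K) 1 1
  have e : A = img K (true, (a - 1) / c) * img K (false, c) * img K (true, (d - 1) / c) := by
    have hd := A.2
    rw [det_fin_two] at hd
    apply Subtype.ext
    rw [Matrix.SpecialLinearGroup.coe_mul, Matrix.SpecialLinearGroup.coe_mul, coe_img, coe_img, coe_img]
    conv_lhs => rw [Matrix.eta_fin_two (A : Matrix (Fin 2) (Fin 2) K)]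
    ext i j
    fin_cases i <;> fin_cases j <;> simp [a, c, d] <;> (first | (field_simp; done) | (have hc' : (A : Matrix (Fin 2) (Fin 2) K) 1 0 ≠ 0 := hc; field_simp; first | linear_combination hd | linear_combination -hd | ring))
  rw [e]
  exact mul_mem (mul_mem (hx _ _) (hx _ _)) (hx _ _)

theorem injective_toSL [Finite K] : Function.Injective (toSL K) := by
  rw [← MonoidHom.ker_eq_bot_iff, Subgroup.eq_bot_iff_forall]
  intro g hg
  rw [MonoidHom.mem_ker] at hg
  obtain ⟨a, t, ht, rfl | ⟨b, rfl⟩⟩ := (rel_gen K).normal_form (closure_gen K) g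
  · have h := congrArg (fun A : Matrix.SpecialLinearGroup (Fin 2) K => (A : Matrix (Fin 2) (Fin 2) K)) hg
    simp only [map_mul, hWord, toSL_wWord, toSL_gen, Matrix.SpecialLinearGroup.coe_mul,
      img_wWord K true ht, img_wWord K true (neg_ne_zero.2 (one_ne_zero (α := K))),
      Matrix.SpecialLinearGroup.coe_one] at h
    have h00 := congrFun (congrFun h 0) 0
    have h01 := congrFun (congrFun h 0) 1
    simp [img] at h00 h01
    subst h00
    simp at h01
    subst h01
    rw [(rel_gen K).zero, (rel_gen K).h_one, one_mul]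
  · have h := congrArg (fun A : Matrix.SpecialLinearGroup (Fin 2) K => (A : Matrix (Fin 2) (Fin 2) K) 1 0) hg
    simp only [map_mul, hWord, toSL_wWord, toSL_gen, Matrix.SpecialLinearGroup.coe_mul,
      img_wWord K true ht, img_wWord K true (neg_ne_zero.2 (one_ne_zero (α := K))),
      img_wWord K true (one_ne_zero (α := K))] at h
    simp [img, ht] at h

theorem exists_equiv [Finite K] :
    ∃ e : PresentedGroup (rels K) ≃* Matrix.SpecialLinearGroup (Fin 2) K,
      (∀ t : K, ((e (PresentedGroup.of (true, t)) : Matrix (Fin 2) (Fin 2) K)) = !![1, t; 0, 1]) ∧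
      (∀ t : K, ((e (PresentedGroup.of (false, t)) : Matrix (Fin 2) (Fin 2) K)) = !![1, 0; t, 1]) := by
  refine ⟨MulEquiv.ofBijective (toSL K) ⟨injective_toSL K, surjective_toSL K⟩, fun t => ?_, fun t => ?_⟩
  · show ((toSL K (gen K true t)) : Matrix (Fin 2) (Fin 2) K) = _
    rw [toSL_gen]; rfl
  · show ((toSL K (gen K false t)) : Matrix (Fin 2) (Fin 2) K) = _
    rw [toSL_gen]; rfl

end CfsgLib.SteinbergTwo
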