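import Mathlib.GroupTheory.Subgroup.Centralizer
import Mathlib.GroupTheory.QuotientGroup.Basic
import Mathlib.RingTheory.IntegralDomain
import Mathlib.FieldTheory.Finite.Basic
import Mathlib.Tactic.FieldSimp
import Mathlib.Tactic.LinearCombination

/-!
The consequences of the rank one Steinberg relations over a finite field: the torus map is
multiplicative and there is a Bruhat normal form.
-/

set_option autoImplicit false

namespace CfsgLib.SteinbergTwo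

variable {K G : Type*} [Field K] [Group G]

/-- The Weyl word. -/
def wWord (x : Bool → K → G) (b : Bool) (t : K) : G := x b t * x (!b) (-t⁻¹) * x b t

/-- The rank one relations. -/
structure Rel (x : Bool → K → G) : Prop where
  add : ∀ b t u, x b t * x b u = x b (t + u)
  conj : ∀ b t u, t ≠ 0 → wWord x b t * x b u * (wWord x b t)⁻¹ = x (!b) (-(t⁻¹ ^ 2 * u))

variable {x : Bool → K → G}

local notation "𝐮" => x true
local notation "𝐯" => x false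
local notation "𝐰" => wWord x true

/-- The torus word. -/
def hWord (x : Bool → K → G) (t : K) : G := wWord x true t * wWord x true (-1)

local notation "𝐡" => hWord x

theorem Rel.zero (R : Rel x) (b : Bool) : x b 0 = 1 := by
  have h := R.add b 0 0
  rwa [add_zero, mul_eq_left] at h

theorem Rel.inv_eq (R : Rel x) (b : Bool) (t : K) : (x b t)⁻¹ = x b (-t) := by
  rw [inv_eq_iff_mul_eq_one, R.add, add_neg_cancel, R.zero]

theorem Rel.w_inv (R : Rel x) (b : Bool) (t : K) : (wWord x b t)⁻¹ = wWord x b (-t) := by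
  simp only [wWord, mul_inv_rev, R.inv_eq, inv_neg, neg_neg, mul_assoc]

/-- Conjugation as a homomorphism, applied to a Weyl word. -/
theorem conj_wWord (g : G) (b : Bool) (t : K) :
    g * wWord x b t * g⁻¹ = (g * x b t * g⁻¹) * (g * x (!b) (-t⁻¹) * g⁻¹) * (g * x b t * g⁻¹) := by
  simp only [wWord, mul_assoc, inv_mul_cancel_left]

theorem Rel.w_conj_u (R : Rel x) {t : K} (ht : t ≠ 0) (u : K) :
    𝐰 t * 𝐮 u * (𝐰 t)⁻¹ = 𝐯 (-(t⁻¹ ^ 2 * u)) := R.conj true t u ht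

theorem Rel.w_conj_v (R : Rel x) {t : K} (ht : t ≠ 0) (s : K) :
    𝐰 t * 𝐯 s * (𝐰 t)⁻¹ = 𝐮 (-(t ^ 2 * s)) := by
  have h := R.w_conj_u (neg_ne_zero.2 ht) (-(t ^ 2 * s))
  have e : -((-t)⁻¹ ^ 2 * -(t ^ 2 * s)) = s := by field_simp
  rw [e, ← R.w_inv, inv_inv] at h
  rw [← h]
  simp [mul_assoc]

theorem Rel.w_eq_w' (R : Rel x) {t : K} (ht : t ≠ 0) : 𝐰 t = wWord x false (-t⁻¹) := by
  have h := conj_wWord (x := x) (𝐰 t) true t
  rw [R.w_conj_u ht, Bool.not_true, R.w_conj_v ht, mul_inv_cancel_right] at h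
  rw [h, wWord, Bool.not_false]
  have e1 : -(t⁻¹ ^ 2 * t) = -t⁻¹ := by field_simp
  have e2 : -(t ^ 2 * -t⁻¹) = -(-t⁻¹)⁻¹ := by field_simp
  rw [e1, e2]

theorem Rel.w_conj_w (R : Rel x) {t u : K} (ht : t ≠ 0) (hu : u ≠ 0) :
    𝐰 t * 𝐰 u * (𝐰 t)⁻¹ = 𝐰 (t ^ 2 * u⁻¹) := by
  rw [conj_wWord, R.w_conj_u ht, Bool.not_true, R.w_conj_v ht,
    R.w_eq_w' (mul_ne_zero (pow_ne_zero _ ht) (inv_ne_zero hu)), wWord, Bool.not_false]
  have e1 : -(t⁻¹ ^ 2 * u) = -(t ^ 2 * u⁻¹)⁻¹ := by field_simp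
  have e2 : -(t ^ 2 * -u⁻¹) = -(-(t ^ 2 * u⁻¹)⁻¹)⁻¹ := by field_simp
  rw [e1, e2]

theorem Rel.h_conj (R : Rel x) {t : K} (ht : t ≠ 0) (b : Bool) (u : K) :
    𝐡 t * x b u * (𝐡 t)⁻¹ = x b (if b then t ^ 2 * u else t⁻¹ ^ 2 * u) := by
  have h1 : (-1 : K) ≠ 0 := neg_ne_zero.2 one_ne_zero
  have e : 𝐡 t * x b u * (𝐡 t)⁻¹ = 𝐰 t * (𝐰 (-1) * x b u * (𝐰 (-1))⁻¹) * (𝐰 t)⁻¹ := by
    simp only [hWord, mul_inv_rev, mul_assoc]
  rw [e]
  cases b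
  · rw [R.w_conj_v h1, R.w_conj_u ht]; simp
  · rw [R.w_conj_u h1, R.w_conj_v ht]; simp

theorem Rel.h_conj_w (R : Rel x) {t : K} (ht : t ≠ 0) (u : K) :
    𝐡 t * 𝐰 u * (𝐡 t)⁻¹ = 𝐰 (t ^ 2 * u) := by
  rw [conj_wWord, R.h_conj ht, R.h_conj ht]
  simp [wWord, mul_inv, mul_comm]

theorem Rel.h_eq (R : Rel x) (s : K) : 𝐡 s = 𝐰 s * (𝐰 1)⁻¹ := by rw [R.w_inv]; rfl

theorem Rel.h_conj_h (R : Rel x) {t : K} (ht : t ≠ 0) (u : K) :
    𝐡 t * 𝐡 u * (𝐡 t)⁻¹ = 𝐡 (t ^ 2 * u) * (𝐡 (t ^ 2))⁻¹ := by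
  have hu := R.h_conj_w ht u
  have h1 := R.h_conj_w ht 1
  rw [mul_one] at h1
  rw [R.h_eq u, R.h_eq (t ^ 2 * u), R.h_eq (t ^ 2), ← hu, ← h1]
  simp only [mul_inv_rev, inv_inv, mul_assoc, inv_mul_cancel_left]

theorem Rel.h_one (R : Rel x) : 𝐡 1 = 1 := by
  rw [hWord, ← R.w_inv, mul_inv_cancel]

/-- The relation which makes the symbol trivial. -/
theorem Rel.steinberg (R : Rel x) {t : K} (ht : t ≠ 0) (hu : 1 - t ≠ 0) :
    𝐡 t * 𝐡 (1 - t) = 𝐡 (t * (1 - t)) := by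
  set u := 1 - t with hu'
  have h1 : (-1 : K) ≠ 0 := neg_ne_zero.2 one_ne_zero
  suffices h : 𝐰 t * 𝐰 (-1) * 𝐰 u = 𝐰 (t * u) by
    rw [hWord, hWord, hWord, ← mul_assoc, h]
  have e : 𝐰 (-1) = 𝐯 1 * 𝐮 (-1) * 𝐯 1 := by
    rw [R.w_eq_w' h1, wWord, Bool.not_false]; norm_num
  have a1 : 𝐰 t * 𝐯 1 = 𝐮 (-t ^ 2) * 𝐰 t := by
    have h := R.w_conj_v ht 1
    rw [mul_one] at h
    rw [← h]; simp [mul_assoc]
  have a2 : 𝐯 1 * 𝐰 u = 𝐰 u * 𝐮 (-u ^ 2) := by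
    have h := R.w_conj_v (neg_ne_zero.2 hu) 1
    rw [mul_one, neg_sq, ← R.w_inv, inv_inv] at h
    rw [← h]; simp [mul_assoc]
  have hfin : 𝐰 t * 𝐮 (-1) * 𝐰 u = 𝐮 t * 𝐯 (-(t * u)⁻¹) * 𝐮 u := by
    have e3 : -(t * u)⁻¹ = -t⁻¹ + -u⁻¹ := by
      field_simp
      rw [hu']; ring
    calc 𝐰 t * 𝐮 (-1) * 𝐰 u
        = 𝐮 t * (𝐯 (-t⁻¹) * (𝐮 t * 𝐮 (-1) * 𝐮 u) * 𝐯 (-u⁻¹)) * 𝐮 u := by
          simp only [wWord, Bool.not_true, mul_assoc]
      _ = _ := by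
          rw [R.add, R.add, show t + -1 + u = 0 by rw [hu']; ring, R.zero, mul_one, R.add, e3]
  calc 𝐰 t * 𝐰 (-1) * 𝐰 u = (𝐰 t * 𝐯 1) * 𝐮 (-1) * (𝐯 1 * 𝐰 u) := by rw [e]; simp only [mul_assoc]
    _ = 𝐮 (-t ^ 2) * (𝐰 t * 𝐮 (-1) * 𝐰 u) * 𝐮 (-u ^ 2) := by rw [a1, a2]; simp only [mul_assoc]
    _ = (𝐮 (-t ^ 2) * 𝐮 t) * 𝐯 (-(t * u)⁻¹) * (𝐮 u * 𝐮 (-u ^ 2)) := by
        rw [hfin]; simp only [mul_assoc]
    _ = _ := by
        rw [R.add, R.add, show -t ^ 2 + t = t * u by rw [hu']; ring,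
          show u + -u ^ 2 = t * u by rw [hu']; ring]
        rfl

variable [Finite K]

/-- Nonsquares `t` with `1 - t` a nonsquare exist as soon as there is a nonsquare. -/
theorem exists_nonsquare_pair {n : K} (hn : ¬ IsSquare n) :
    ∃ t : K, ¬ IsSquare t ∧ ¬ IsSquare (1 - t) := by
  classical
  haveI := Fintype.ofFinite K
  by_contra hcon
  push Not at hcon
  set N := Finset.univ.filter fun t : K => ¬ IsSquare t
  set S := Finset.univ.filter fun t : K => t ≠ 0 ∧ IsSquare t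
  have hn0 : n ≠ 0 := by rintro rfl; exact hn IsSquare.zero
  have h1 : (N.image fun t => 1 - t) ⊆ S.erase 1 := by
    intro s hs
    obtain ⟨t, ht, rfl⟩ := Finset.mem_image.1 hs
    simp only [N, Finset.mem_filter, Finset.mem_univ, true_and] at ht
    simp only [S, Finset.mem_erase, Finset.mem_filter, Finset.mem_univ, true_and, ne_eq, sub_eq_self,
      sub_eq_zero]
    exact ⟨fun h => ht (h ▸ IsSquare.zero), fun h => ht (h ▸ IsSquare.one), hcon t ht⟩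
  have h2 : (S.image fun s => n * s) ⊆ N := by
    intro s hs
    obtain ⟨a, ha, rfl⟩ := Finset.mem_image.1 hs
    simp only [S, Finset.mem_filter, Finset.mem_univ, true_and] at ha
    simp only [N, Finset.mem_filter, Finset.mem_univ, true_and]
    intro h
    refine hn ?_
    have := h.div ha.2
    rwa [mul_div_cancel_right₀ _ ha.1] at this
  have c1 := Finset.card_le_card h1
  rw [Finset.card_image_of_injective _ (sub_right_injective), Finset.card_erase_of_mem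
    (by simp [S])] at c1
  have c2 := Finset.card_le_card h2
  rw [Finset.card_image_of_injective _ (mul_right_injective₀ hn0)] at c2
  have : 0 < S.card := Finset.card_pos.2 ⟨1, by simp [S]⟩
  omega

/-- The product of two nonsquares in a finite field is a square. -/
theorem isSquare_mul_of_not {s t : K} (hs : ¬ IsSquare s) (ht : ¬ IsSquare t) : IsSquare (s * t) := by
  have hs0 : s ≠ 0 := by rintro rfl; exact hs IsSquare.zero
  have ht0 : t ≠ 0 := by rintro rfl; exact ht IsSquare.zero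
  obtain ⟨v, hv⟩ := IsCyclic.exists_generator (α := Kˣ)
  obtain ⟨i, hi⟩ := Subgroup.mem_zpowers_iff.1 (hv (Units.mk0 s hs0))
  obtain ⟨j, hj⟩ := Subgroup.mem_zpowers_iff.1 (hv (Units.mk0 t ht0))
  have key : ∀ (k : ℤ) (a : K) (ha : a ≠ 0), v ^ k = Units.mk0 a ha → Even k → IsSquare a := by
    rintro k a ha h ⟨m, rfl⟩
    exact ⟨((v ^ m : Kˣ) : K), by rw [← Units.val_mul, ← zpow_add, h, Units.val_mk0]⟩
  refine key (i + j) (s * t) (mul_ne_zero hs0 ht0) (by rw [zpow_add, hi, hj]; ext; rfl) ?_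
  rw [Int.even_add]
  exact ⟨fun h => absurd (key i s hs0 hi h) hs, fun h => absurd (key j t ht0 hj h) ht⟩

theorem Rel.h_mul (R : Rel x) (hgen : Subgroup.closure {g : G | ∃ b t, g = x b t} = ⊤) {t u : K}
    (ht : t ≠ 0) (hu : u ≠ 0) : 𝐡 t * 𝐡 u = 𝐡 (t * u) := by
  -- torus elements act through multiplication
  have hcent : ∀ s r : K, s ≠ 0 → r ≠ 0 → (𝐡 (s * r))⁻¹ * (𝐡 s * 𝐡 r) ∈ Subgroup.center G := by
    intro s r hs hr
    rw [Subgroup.mem_center_iff]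
    set c := (𝐡 (s * r))⁻¹ * (𝐡 s * 𝐡 r)
    have hle : Subgroup.closure {g : G | ∃ b t, g = x b t} ≤ Subgroup.centralizer {c} := by
      rw [Subgroup.closure_le]
      rintro g ⟨b, a, rfl⟩
      rw [SetLike.mem_coe, Subgroup.mem_centralizer_singleton_iff]
      have h3 : (𝐡 s * 𝐡 r) * x b a * (𝐡 s * 𝐡 r)⁻¹ = 𝐡 (s * r) * x b a * (𝐡 (s * r))⁻¹ := by
        rw [R.h_conj (mul_ne_zero hs hr)]
        have h4 : (𝐡 s * 𝐡 r) * x b a * (𝐡 s * 𝐡 r)⁻¹ = 𝐡 s * (𝐡 r * x b a * (𝐡 r)⁻¹) * (𝐡 s)⁻¹ := by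
          simp only [mul_inv_rev, mul_assoc]
        rw [h4, R.h_conj hr, R.h_conj hs]
        cases b <;> simp <;> ring_nf
      rw [mul_inv_eq_iff_eq_mul] at h3
      simp only [c, mul_assoc] at h3 ⊢
      rw [h3]
      simp [mul_assoc]
    intro g
    have := hle (hgen ▸ Subgroup.mem_top g)
    rw [Subgroup.mem_centralizer_singleton_iff] at this
    exact this
  obtain ⟨v, hv⟩ := IsCyclic.exists_generator (α := Kˣ)
  let φ : Kˣ →* G ⧸ Subgroup.center G :=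
    { toFun := fun s => QuotientGroup.mk (𝐡 (s : K))
      map_one' := by simp [R.h_one]
      map_mul' := fun a b => by
        rw [← QuotientGroup.mk_mul, QuotientGroup.eq, Units.val_mul]
        exact hcent _ _ a.ne_zero b.ne_zero }
  -- hence they commute
  have hcomm : ∀ s r : K, s ≠ 0 → r ≠ 0 → Commute (𝐡 s) (𝐡 r) := by
    intro s r hs hr
    obtain ⟨i, hi⟩ := Subgroup.mem_zpowers_iff.1 (hv (Units.mk0 s hs))
    obtain ⟨j, hj⟩ := Subgroup.mem_zpowers_iff.1 (hv (Units.mk0 r hr))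
    have key : ∀ (k : ℤ) (a : K) (ha : a ≠ 0), v ^ k = Units.mk0 a ha →
        ∃ z ∈ Subgroup.center G, 𝐡 a = (𝐡 (v : K)) ^ k * z := by
      intro k a ha h
      refine ⟨((𝐡 (v : K)) ^ k)⁻¹ * 𝐡 a, ?_, (mul_inv_cancel_left _ _).symm⟩
      rw [← QuotientGroup.eq, QuotientGroup.mk_zpow]
      show φ v ^ k = φ (Units.mk0 a ha)
      rw [← map_zpow, h]
    obtain ⟨z₁, hz₁, e₁⟩ := key i s hs hi
    obtain ⟨z₂, hz₂, e₂⟩ := key j r hr hj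
    rw [e₁, e₂]
    have c₁ : ∀ g, Commute z₁ g := fun g => (Subgroup.mem_center_iff.1 hz₁ g).symm
    have c₂ : ∀ g, Commute g z₂ := fun g => Subgroup.mem_center_iff.1 hz₂ g
    exact (((Commute.refl _).zpow_zpow i j).mul_right (c₂ _)).mul_left ((c₁ _).mul_right (c₁ _))
  have hsq : ∀ a r : K, a ≠ 0 → r ≠ 0 → 𝐡 (a ^ 2) * 𝐡 r = 𝐡 (a ^ 2 * r) := by
    intro a r ha hr
    have h := R.h_conj_h ha r
    rw [(hcomm a r ha hr).eq, mul_inv_cancel_right, eq_mul_inv_iff_mul_eq] at h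
    rw [← h]
    exact (hcomm _ _ (pow_ne_zero _ ha) hr).eq
  have hsq' : ∀ s r : K, IsSquare s → s ≠ 0 → r ≠ 0 → 𝐡 s * 𝐡 r = 𝐡 (s * r) := by
    rintro s r ⟨a, rfl⟩ hs hr
    rw [← pow_two] at hs ⊢
    exact hsq a r (fun h => hs (by rw [h]; ring)) hr
  by_cases h1 : IsSquare t
  · exact hsq' t u h1 ht hu
  by_cases h2 : IsSquare u
  · rw [(hcomm t u ht hu).eq, hsq' u t h2 hu ht, mul_comm]
  obtain ⟨s, hs, hs'⟩ := exists_nonsquare_pair h1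
  have hs0 : s ≠ 0 := by rintro rfl; exact hs IsSquare.zero
  have hs1 : 1 - s ≠ 0 := fun h => hs' (h ▸ IsSquare.zero)
  have hdiv : ∀ {a b : K}, ¬ IsSquare a → ¬ IsSquare b → IsSquare (a / b) := fun {a b} ha hb => by
    rw [div_eq_mul_inv]
    exact isSquare_mul_of_not ha (fun h => hb (by simpa using h.inv))
  have et : 𝐡 t = 𝐡 (t / s) * 𝐡 s := by
    rw [hsq' _ _ (hdiv h1 hs) (div_ne_zero ht hs0) hs0, div_mul_cancel₀ _ hs0]
  have eu : 𝐡 u = 𝐡 (u / (1 - s)) * 𝐡 (1 - s) := by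
    rw [hsq' _ _ (hdiv h2 hs') (div_ne_zero hu hs1) hs1, div_mul_cancel₀ _ hs1]
  calc 𝐡 t * 𝐡 u = 𝐡 (t / s) * 𝐡 (u / (1 - s)) * (𝐡 s * 𝐡 (1 - s)) := by
        rw [et, eu]
        exact (hcomm s _ hs0 (div_ne_zero hu hs1)).mul_mul_mul_comm _ _
    _ = 𝐡 (t / s * (u / (1 - s))) * 𝐡 (s * (1 - s)) := by
        rw [R.steinberg hs0 hs1, hsq' _ _ (hdiv h1 hs) (div_ne_zero ht hs0) (div_ne_zero hu hs1)]
    _ = _ := by
        rw [hsq' _ _ ((hdiv h1 hs).mul (hdiv h2 hs')) (mul_ne_zero (div_ne_zero ht hs0) (div_ne_zero hu hs1))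
          (mul_ne_zero hs0 hs1)]
        congr 1
        field_simp

/-- Bruhat normal form. -/
theorem Rel.normal_form (R : Rel x) (hgen : Subgroup.closure {g : G | ∃ b t, g = x b t} = ⊤) (g : G) :
    ∃ (a t : K), t ≠ 0 ∧ (g = 𝐮 a * 𝐡 t ∨ ∃ b, g = 𝐮 a * 𝐡 t * 𝐰 1 * 𝐮 b) := by
  have hm := fun {t u : K} (ht : t ≠ 0) (hu : u ≠ 0) => R.h_mul hgen ht hu
  have hh : (-1 : K) ≠ 0 := neg_ne_zero.2 one_ne_zero
  have hwh : ∀ s : K, s ≠ 0 → 𝐰 s = 𝐡 s * 𝐰 1 := fun s _ => by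
    rw [hWord, mul_assoc, ← R.w_inv, inv_mul_cancel, mul_one]
  have hxh : ∀ (t c : K), t ≠ 0 → 𝐡 t * 𝐮 c = 𝐮 (t ^ 2 * c) * 𝐡 t := fun t c ht => by
    have h := R.h_conj ht true c
    rw [if_pos rfl] at h
    rw [← h]; simp
  have hinv : ∀ s : K, s ≠ 0 → (𝐡 s)⁻¹ = 𝐡 s⁻¹ := fun s hs => by
    rw [inv_eq_iff_mul_eq_one, hm hs (inv_ne_zero hs), mul_inv_cancel₀ hs, R.h_one]
  have hwinv : (𝐰 1)⁻¹ = 𝐡 (-1) * 𝐰 1 := by rw [R.w_inv]; exact hwh _ hh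
  have hww : 𝐰 1 * 𝐰 1 = 𝐡 (-1) := by
    have h : 𝐡 (-1) * 𝐰 1 * 𝐰 1 = 1 := by rw [← hwinv, inv_mul_cancel]
    rw [mul_assoc] at h
    rw [eq_inv_of_mul_eq_one_right h, hinv _ hh, inv_neg, inv_one]
  -- closed under right multiplication by `𝐮` and `𝐰 1`
  set N : G → Prop := fun g => ∃ (a t : K), t ≠ 0 ∧ (g = 𝐮 a * 𝐡 t ∨ ∃ b, g = 𝐮 a * 𝐡 t * 𝐰 1 * 𝐮 b)
  have hNx : ∀ g c, N g → N (g * 𝐮 c) := by
    rintro g c ⟨a, t, ht, rfl | ⟨b, rfl⟩⟩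
    · exact ⟨a + t ^ 2 * c, t, ht, .inl (by rw [mul_assoc, hxh t c ht, ← mul_assoc, R.add])⟩
    · exact ⟨a, t, ht, .inr ⟨b + c, by rw [mul_assoc _ (𝐮 b), R.add]⟩⟩
  have hNh : ∀ g s, s ≠ 0 → N g → N (g * 𝐡 s) := by
    rintro g s hs ⟨a, t, ht, rfl | ⟨b, rfl⟩⟩
    · exact ⟨a, t * s, mul_ne_zero ht hs, .inl (by rw [mul_assoc, hm ht hs])⟩
    · refine ⟨a, t * s⁻¹, mul_ne_zero ht (inv_ne_zero hs), .inr ⟨s⁻¹ ^ 2 * b, ?_⟩⟩
      have e1 : 𝐮 b * 𝐡 s = 𝐡 s * 𝐮 (s⁻¹ ^ 2 * b) := by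
        rw [hxh s _ hs, ← mul_assoc (s ^ 2), ← mul_pow, mul_inv_cancel₀ hs, one_pow, one_mul]
      have e2 : 𝐰 1 * 𝐡 s = 𝐡 s⁻¹ * 𝐰 1 := by
        have h : 𝐰 1 * 𝐡 s * (𝐰 1)⁻¹ = 𝐡 s⁻¹ := by
          have hs' : 𝐡 s = 𝐰 s * (𝐰 1)⁻¹ := by rw [R.w_inv]; rfl
          have hsi : 𝐡 s⁻¹ = 𝐰 s⁻¹ * (𝐰 1)⁻¹ := by rw [R.w_inv]; rfl
          rw [hs', hsi, ← mul_assoc]
          have := R.w_conj_w one_ne_zero hs
          rw [one_pow, one_mul] at this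
          rw [← this]
        rw [← h]; simp [mul_assoc]
      rw [← hm ht (inv_ne_zero hs)]
      simp only [mul_assoc]
      rw [e1, ← mul_assoc (𝐰 1), e2]
      simp only [mul_assoc]
  have hNv : ∀ g c, N g → (∀ a t, t ≠ 0 → g = 𝐮 a * 𝐡 t → N (g * 𝐯 c)) := by
    intro g c hg a t ht e
    rcases eq_or_ne c 0 with rfl | hc
    · rwa [R.zero, mul_one]
    have hs : -c⁻¹ ≠ 0 := neg_ne_zero.2 (inv_ne_zero hc)
    have e1 : 𝐯 c = 𝐮 c⁻¹ * 𝐡 (-c⁻¹) * 𝐰 1 * 𝐮 c⁻¹ := by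
      rw [mul_assoc (𝐮 c⁻¹) (𝐡 (-c⁻¹)), ← hwh _ hs, wWord, Bool.not_true]
      have : -(-c⁻¹)⁻¹ = c := by field_simp
      rw [this]
      simp only [← mul_assoc, R.add, add_neg_cancel, R.zero, one_mul]
      simp only [mul_assoc, R.add, neg_add_cancel, R.zero, mul_one]
    refine ⟨a + t ^ 2 * c⁻¹, t * -c⁻¹, mul_ne_zero ht hs, .inr ⟨c⁻¹, ?_⟩⟩
    rw [e, e1, ← R.add, ← hm ht hs]
    simp only [mul_assoc]
    rw [← mul_assoc (𝐡 t) (𝐮 c⁻¹), hxh t _ ht]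
    simp only [mul_assoc]
  have hNw : ∀ g, N g → N (g * 𝐰 1) := by
    rintro g ⟨a, t, ht, rfl | ⟨b, rfl⟩⟩
    · exact ⟨a, t, ht, .inr ⟨0, by rw [R.zero, mul_one]⟩⟩
    · have e : 𝐰 1 * 𝐮 b * 𝐰 1 = 𝐯 (-b) * 𝐡 (-1) := by
        rw [← hww, ← mul_assoc]
        have h := R.w_conj_u one_ne_zero b
        rw [inv_one, one_pow, one_mul] at h
        rw [← h]; simp [mul_assoc]
      have : 𝐮 a * 𝐡 t * 𝐰 1 * 𝐮 b * 𝐰 1 = 𝐮 a * 𝐡 t * 𝐯 (-b) * 𝐡 (-1) := by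
        simp only [mul_assoc] at e ⊢
        rw [e]
      rw [this]
      exact hNh _ _ hh (hNv _ _ ⟨a, t, ht, .inl rfl⟩ a t ht rfl)
  have hNw' : ∀ g, N g → N (g * (𝐰 1)⁻¹) := fun g hg => by
    rw [hwinv, ← mul_assoc]; exact hNw _ (hNh _ _ hh hg)
  refine Subgroup.closure_induction_right (p := fun g _ => N g) ?_ ?_ ?_ (hgen ▸ Subgroup.mem_top g)
  · exact ⟨0, 1, one_ne_zero, .inl (by rw [R.zero, R.h_one, one_mul])⟩
  all_goals rintro y _ _ ⟨b, c, rfl⟩ hy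
  all_goals cases b
  rotate_left
  · exact hNx _ _ hy
  rotate_left
  · rw [R.inv_eq]; exact hNx _ _ hy
  all_goals try rw [R.inv_eq]
  all_goals
    have key : ∀ c : K, 𝐯 c = 𝐰 1 * 𝐮 (-c) * (𝐰 1)⁻¹ := fun c => by
      rw [R.w_conj_u one_ne_zero]; simp
    rw [key, ← mul_assoc, ← mul_assoc]
    exact hNw' _ (hNx _ _ (hNw _ hy))

end CfsgLib.SteinbergTwo
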